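import Cfsg.Agent.Lib.Recog.SporBound.Sound

set_option autoImplicit false
set_option maxRecDepth 20000

/-! Generated certificate data, piece 0: Fi23 tower, cosets of a parabolic in the next <bcd>. -/

namespace CfsgLib.Recog.SporBound.TriF2
open CfsgLib.Recog.SporBound

noncomputable def ft0 : Q (ℕ) := (.leaf 0x30000330000300003200002000023000010000110000000000200000000001000020000310000100002200000000013)
noncomputable def ct0 : Q (ℕ) := (.leaf 0x3000020000100000)
noncomputable def st0 : Q (List ℕ) := (.leaf [12, 13, 0x3000000000000003000010000100004, 0x1000000000400000000010000000005000020000000005, 0x2000010000500001000020000000005000030000000003, 0x200006000020000000003000030000000004])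
noncomputable def et0 : Q (List ℕ) := (.leaf [0x30000100000, 0x40000100000, 0x100001, 0x50000100001, 0x10000100002, 0x100000, 0x20000100003, 0x10000100001, 0x60000100002, 0x20000100002, 0x70000100003, 0x80000100003])

end CfsgLib.Recog.SporBound.TriF2
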